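import Groth.Prelude.Def_SpSeq
import Groth.Agent.S6801
import Mathlib.CategoryTheory.Abelian.CommSq
import Mathlib.CategoryTheory.Abelian.Refinements

/-! # Pushouts and pullbacks of filtered objects -/

set_option autoImplicit false
set_option linter.all false
set_option backward.isDefEq.respectTransparency false
set_option backward.isDefEq.respectTransparency.types false
universe v u

open CategoryTheory CategoryTheory.Limits

noncomputable section

namespace GrothLib.FilPush25

variable {A : Type u} [Category.{v} A] [Abelian A]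

theorem le_of_local {X : A} {S T : Subobject X} {W : A} (π : W ⟶ (S : A)) [Epi π]
    (h : T.Factors (π ≫ S.arrow)) : S ≤ T := by
  have sq : CommSq (T.factorThru _ h) π T.arrow S.arrow := ⟨T.factorThru_arrow _ h⟩
  have := strongEpi_of_epi π
  exact Subobject.le_of_comm sq.lift sq.fac_right

theorem self_factors {X Y : A} (h : X ⟶ Y) : (imageSubobject h).Factors h := by
  have h' := imageSubobject_factors_comp_self h (𝟙 X)
  rwa [Category.id_comp] at h'

theorem exists_refine {X Y W : A} {h : X ⟶ Y} {x : W ⟶ Y} (hx : (imageSubobject h).Factors x) :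
    ∃ (W' : A) (π : W' ⟶ W) (_ : Epi π) (a : W' ⟶ X), π ≫ x = a ≫ h := by
  obtain ⟨W', π, hπ, a, ha⟩ :=
    surjective_up_to_refinements_of_epi (factorThruImageSubobject h) ((imageSubobject h).factorThru x hx)
  refine ⟨W', π, hπ, a, ?_⟩
  rw [← (imageSubobject h).factorThru_arrow x hx, ← Category.assoc, ha, Category.assoc, imageSubobject_arrow_comp]

theorem le_pullback_iff {X Y : A} (h : X ⟶ Y) (S : Subobject X) (T : Subobject Y) :
    S ≤ (Subobject.pullback h).obj T ↔ T.Factors (S.arrow ≫ h) := by
  rw [← pullback_factors_iff]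
  exact ⟨fun hS => Subobject.factors_of_le _ hS (by simpa using Subobject.factors_comp_arrow (𝟙 (S : A))),
    fun hS => Subobject.le_of_comm _ (Subobject.factorThru_arrow _ _ hS)⟩

theorem imageSubobject_le_of_factors {X Y : A} (h : X ⟶ Y) (T : Subobject Y) (hT : T.Factors h) :
    imageSubobject h ≤ T := imageSubobject_le h (T.factorThru h hT) (T.factorThru_arrow h hT)

open SpSeq SpSeq.FilObj

theorem isStrict_of_iso {K L : FilObj A} (e : K ≅ L) : IsStrict e.hom := by
  intro p
  refine le_antisymm (le_inf (imageSubobject_comp_le _ _) ?_) ?_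
  · exact imageSubobject_le_of_factors _ _ ((le_pullback_iff _ _ _).1 (e.hom.compat p))
  · refine le_of_local (𝟙 _) ?_
    rw [Category.id_comp]
    let S := imageSubobject e.hom.hom ⊓ L.fil p
    have hS : (L.fil p).Factors S.arrow := Subobject.inf_arrow_factors_right _ _
    have hK : (K.fil p).Factors (S.arrow ≫ e.inv.hom) := by
      rw [← Subobject.factorThru_arrow _ _ hS, Category.assoc]
      exact Subobject.factors_of_factors_right _ ((le_pullback_iff _ _ _).1 (e.inv.compat p))
    have h := imageSubobject_factors_comp_self ((K.fil p).arrow ≫ e.hom.hom) ((K.fil p).factorThru _ hK)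
    rw [← Category.assoc, Subobject.factorThru_arrow, Category.assoc] at h
    have h1 : e.inv.hom ≫ e.hom.hom = 𝟙 L.obj := congrArg FilObj.Hom.hom e.inv_hom_id
    rw [h1, Category.comp_id] at h
    exact h

theorem mono_hom_of_iso {K L : FilObj A} (e : K ≅ L) : Mono e.hom.hom :=
  haveI : IsIso (FilObj.forget.map e.hom) := inferInstance
  inferInstanceAs (Mono (FilObj.forget.map e.hom))

theorem forget_hom_ext {K L : FilObj A} {f g : K ⟶ L} (h : f.hom = g.hom) : f = g := FilObj.Hom.ext h

section pushout

variable {K L M : FilObj A} (f : K ⟶ L) (g : K ⟶ M)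

/-- The pushout. -/
def pushoutObj : FilObj A where
  obj := pushout f.hom g.hom
  fil p := imageSubobject ((L.fil p).arrow ≫ pushout.inl f.hom g.hom) ⊔
    imageSubobject ((M.fil p).arrow ≫ pushout.inr f.hom g.hom)
  anti p q h := by
    refine sup_le_sup ?_ ?_ <;> refine imageSubobject_le_of_factors _ _ ?_
    · rw [← Subobject.ofLE_arrow (L.anti h), Category.assoc]
      exact imageSubobject_factors_comp_self _ _
    · rw [← Subobject.ofLE_arrow (M.anti h), Category.assoc]
      exact imageSubobject_factors_comp_self _ _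

/-- The left map. -/
def inlP : L ⟶ pushoutObj f g where
  hom := pushout.inl f.hom g.hom
  compat p := (le_pullback_iff _ _ _).2 (Subobject.sup_factors_of_factors_left (self_factors _))

/-- The right map. -/
def inrP : M ⟶ pushoutObj f g where
  hom := pushout.inr f.hom g.hom
  compat p := (le_pullback_iff _ _ _).2 (Subobject.sup_factors_of_factors_right (self_factors _))

theorem isPushout_pushoutObj : IsPushout f g (inlP f g) (inrP f g) := by
  have w : f ≫ inlP f g = g ≫ inrP f g := forget_hom_ext pushout.condition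
  refine ⟨⟨w⟩, ⟨PushoutCocone.IsColimit.mk w (fun s => ⟨pushout.desc s.inl.hom s.inr.hom (congrArg FilObj.Hom.hom s.condition), fun p => ?_⟩)
    (fun s => forget_hom_ext (pushout.inl_desc _ _ _)) (fun s => forget_hom_ext (pushout.inr_desc _ _ _))
    (fun s m h1 h2 => forget_hom_ext (pushout.hom_ext ((congrArg FilObj.Hom.hom h1).trans (pushout.inl_desc _ _ _).symm)
      ((congrArg FilObj.Hom.hom h2).trans (pushout.inr_desc _ _ _).symm)))⟩⟩
  refine sup_le ?_ ?_ <;> refine imageSubobject_le_of_factors _ _ ?_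
  · rw [pullback_factors_iff, Category.assoc, pushout.inl_desc]
    exact (le_pullback_iff _ _ _).1 (s.inl.compat p)
  · rw [pullback_factors_iff, Category.assoc, pushout.inr_desc]
    exact (le_pullback_iff _ _ _).1 (s.inr.compat p)

theorem isStrict_inrP (hf : IsStrict f) : IsStrict (inrP f g) := by
  intro p
  refine le_antisymm (le_inf (imageSubobject_comp_le _ _)
    (imageSubobject_le_of_factors _ _ ((le_pullback_iff _ _ _).1 ((inrP f g).compat p)))) ?_
  rw [inf_comm]
  change (imageSubobject ((L.fil p).arrow ≫ pushout.inl f.hom g.hom) ⊔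
    imageSubobject ((M.fil p).arrow ≫ pushout.inr f.hom g.hom)) ⊓ imageSubobject (pushout.inr f.hom g.hom) ≤
      imageSubobject ((M.fil p).arrow ≫ pushout.inr f.hom g.hom)
  set SA := imageSubobject ((L.fil p).arrow ≫ pushout.inl f.hom g.hom)
  set SB := imageSubobject ((M.fil p).arrow ≫ pushout.inr f.hom g.hom)
  set I := imageSubobject (pushout.inr f.hom g.hom)
  let S := (SA ⊔ SB) ⊓ I
  let d : (SA : A) ⊞ (SB : A) ⟶ pushout f.hom g.hom := biprod.desc SA.arrow SB.arrow
  have hd : SA ⊔ SB ≤ imageSubobject d := sup_le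
    (le_of_local (𝟙 _) (by simpa [d] using imageSubobject_factors_comp_self d biprod.inl))
    (le_of_local (𝟙 _) (by simpa [d] using imageSubobject_factors_comp_self d biprod.inr))
  obtain ⟨W₁, π₁, hπ₁, z, hz⟩ := exists_refine
    (Subobject.factors_of_le _ hd (Subobject.inf_arrow_factors_left (SA ⊔ SB) I))
  obtain ⟨W₂, π₂, hπ₂, l, hl⟩ := exists_refine (h := (L.fil p).arrow ≫ pushout.inl f.hom g.hom)
    (x := z ≫ biprod.fst ≫ SA.arrow) (by rw [← Category.assoc]; exact Subobject.factors_comp_arrow _)
  obtain ⟨W₃, π₃, hπ₃, m, hm⟩ := exists_refine (h := (M.fil p).arrow ≫ pushout.inr f.hom g.hom)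
    (x := π₂ ≫ z ≫ biprod.snd ≫ SB.arrow)
    (by simp only [← Category.assoc]; exact Subobject.factors_comp_arrow _)
  obtain ⟨W₄, π₄, hπ₄, r, hr⟩ := exists_refine (h := pushout.inr f.hom g.hom)
    (x := π₃ ≫ π₂ ≫ π₁ ≫ S.arrow)
    (Subobject.factors_of_factors_right _ (Subobject.factors_of_factors_right _
      (Subobject.factors_of_factors_right _ (Subobject.inf_arrow_factors_right (SA ⊔ SB) I))))
  have hsum : π₁ ≫ S.arrow = z ≫ biprod.fst ≫ SA.arrow + z ≫ biprod.snd ≫ SB.arrow := by
    rw [hz, ← Preadditive.comp_add]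
    congr 1
    apply biprod.hom_ext' <;> simp [d]
  let li : W₄ ⟶ L.obj := π₄ ≫ π₃ ≫ l ≫ (L.fil p).arrow
  let mi : W₄ ⟶ M.obj := π₄ ≫ m ≫ (M.fil p).arrow
  have key : li ≫ pushout.inl f.hom g.hom + mi ≫ pushout.inr f.hom g.hom = r ≫ pushout.inr f.hom g.hom := by
    rw [← hr, hsum]
    simp only [li, mi, Category.assoc, Preadditive.comp_add, ← hl, ← hm]
  have hpo : IsPushout f.hom g.hom (pushout.inl f.hom g.hom) (pushout.inr f.hom g.hom) := IsPushout.of_hasPushout _ _
  obtain ⟨W₅, π₅, hπ₅, k, hk⟩ := hpo.exact_shortComplex.exact_up_to_refinements (A := W₄)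
    (biprod.lift li (mi - r)) (by
      change biprod.lift li (mi - r) ≫ biprod.desc (pushout.inl f.hom g.hom) (pushout.inr f.hom g.hom) = 0
      rw [biprod.lift_desc, Preadditive.sub_comp, ← add_sub_assoc, key, sub_self])
  have hk1 : π₅ ≫ li = k ≫ f.hom := by
    have := congrArg (· ≫ biprod.fst) hk
    simpa using this
  have hk2 : (imageSubobject ((K.fil p).arrow ≫ f.hom)).Factors (π₅ ≫ li) := by
    rw [hf p, Subobject.inf_factors]
    refine ⟨hk1 ▸ imageSubobject_factors_comp_self _ _, ?_⟩
    simp only [li, ← Category.assoc]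
    exact Subobject.factors_comp_arrow _
  obtain ⟨W₆, π₆, hπ₆, k', hk'⟩ := exists_refine hk2
  refine le_of_local (π₆ ≫ π₅ ≫ π₄ ≫ π₃ ≫ π₂ ≫ π₁) ?_
  have hgk : (M.fil p).Factors (k' ≫ (K.fil p).arrow ≫ g.hom) :=
    Subobject.factors_of_factors_right _ ((le_pullback_iff _ _ _).1 (g.compat p))
  have : (π₆ ≫ π₅ ≫ π₄ ≫ π₃ ≫ π₂ ≫ π₁) ≫ S.arrow =
      ((M.fil p).factorThru _ hgk + π₆ ≫ π₅ ≫ π₄ ≫ m) ≫ (M.fil p).arrow ≫ pushout.inr f.hom g.hom := by
    rw [Preadditive.add_comp, ← Category.assoc ((M.fil p).factorThru _ hgk), Subobject.factorThru_arrow]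
    simp only [Category.assoc]
    rw [← pushout.condition (f := f.hom) (g := g.hom)]
    have e1 : k' ≫ (K.fil p).arrow ≫ f.hom ≫ pushout.inl f.hom g.hom = π₆ ≫ π₅ ≫ li ≫ pushout.inl f.hom g.hom := by
      have := congrArg (· ≫ pushout.inl f.hom g.hom) hk'.symm
      simpa using this
    rw [e1, hsum]
    simp only [li, Category.assoc, Preadditive.comp_add, ← hl, ← hm]
  rw [this]
  exact imageSubobject_factors_comp_self _ _

end pushout

section pullback

variable {K L M : FilObj A} (f : L ⟶ K) (g : M ⟶ K)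

/-- The pullback. -/
def pullbackObj : FilObj A where
  obj := pullback f.hom g.hom
  fil p := (Subobject.pullback (pullback.fst f.hom g.hom)).obj (L.fil p) ⊓
    (Subobject.pullback (pullback.snd f.hom g.hom)).obj (M.fil p)
  anti p q h := inf_le_inf ((Subobject.pullback _).map (homOfLE (L.anti h))).le
    ((Subobject.pullback _).map (homOfLE (M.anti h))).le

/-- The left projection. -/
def fstP : pullbackObj f g ⟶ L where
  hom := pullback.fst f.hom g.hom
  compat p := inf_le_left

/-- The right projection. -/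
def sndP : pullbackObj f g ⟶ M where
  hom := pullback.snd f.hom g.hom
  compat p := inf_le_right

theorem isPullback_pullbackObj : IsPullback (fstP f g) (sndP f g) f g := by
  have w : fstP f g ≫ f = sndP f g ≫ g := forget_hom_ext pullback.condition
  refine ⟨⟨w⟩, ⟨PullbackCone.IsLimit.mk w (fun s => ⟨pullback.lift s.fst.hom s.snd.hom (congrArg FilObj.Hom.hom s.condition), fun p => ?_⟩)
    (fun s => forget_hom_ext (pullback.lift_fst _ _ _)) (fun s => forget_hom_ext (pullback.lift_snd _ _ _))
    (fun s m h1 h2 => forget_hom_ext (pullback.hom_ext ((congrArg FilObj.Hom.hom h1).trans (pullback.lift_fst _ _ _).symm)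
      ((congrArg FilObj.Hom.hom h2).trans (pullback.lift_snd _ _ _).symm)))⟩⟩
  rw [le_pullback_iff]
  change ((Subobject.pullback (pullback.fst f.hom g.hom)).obj (L.fil p) ⊓
    (Subobject.pullback (pullback.snd f.hom g.hom)).obj (M.fil p)).Factors _
  rw [Subobject.inf_factors, pullback_factors_iff, pullback_factors_iff, Category.assoc, Category.assoc]
  erw [pullback.lift_fst, pullback.lift_snd]
  exact ⟨(le_pullback_iff _ _ _).1 (s.fst.compat p), (le_pullback_iff _ _ _).1 (s.snd.compat p)⟩

theorem isStrict_sndP (hf : IsStrict f) : IsStrict (sndP f g) := by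
  intro p
  refine le_antisymm (le_inf (imageSubobject_comp_le _ _)
    (imageSubobject_le_of_factors _ _ ((le_pullback_iff _ _ _).1 ((sndP f g).compat p)))) ?_
  let S := imageSubobject (sndP f g).hom ⊓ M.fil p
  obtain ⟨W₁, π₁, hπ₁, y, hy⟩ := exists_refine (Subobject.inf_arrow_factors_left (imageSubobject (sndP f g).hom) (M.fil p))
  have hxM : (M.fil p).Factors (π₁ ≫ S.arrow) :=
    Subobject.factors_of_factors_right _ (Subobject.inf_arrow_factors_right _ _)
  have hy' : π₁ ≫ S.arrow = y ≫ pullback.snd f.hom g.hom := hy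
  have h2 : (imageSubobject ((L.fil p).arrow ≫ f.hom)).Factors (π₁ ≫ S.arrow ≫ g.hom) := by
    rw [hf p, Subobject.inf_factors]
    constructor
    · rw [← Category.assoc, hy', Category.assoc, ← pullback.condition, ← Category.assoc]
      exact imageSubobject_factors_comp_self _ _
    · rw [← Category.assoc, ← Subobject.factorThru_arrow _ _ hxM, Category.assoc]
      exact Subobject.factors_of_factors_right _ ((le_pullback_iff _ _ _).1 (g.compat p))
  obtain ⟨W₂, π₂, hπ₂, l, hl⟩ := exists_refine h2
  let t : W₂ ⟶ pullback f.hom g.hom := pullback.lift (l ≫ (L.fil p).arrow) (π₂ ≫ π₁ ≫ S.arrow)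
    (by simp only [Category.assoc]; exact hl.symm)
  have ht : ((pullbackObj f g).fil p).Factors t := by
    change ((Subobject.pullback (pullback.fst f.hom g.hom)).obj (L.fil p) ⊓
      (Subobject.pullback (pullback.snd f.hom g.hom)).obj (M.fil p)).Factors t
    rw [Subobject.inf_factors, pullback_factors_iff, pullback_factors_iff]
    simp only [t, pullback.lift_fst, pullback.lift_snd]
    exact ⟨Subobject.factors_comp_arrow _, Subobject.factors_of_factors_right _ hxM⟩
  refine le_of_local (π₂ ≫ π₁) ?_
  have : (π₂ ≫ π₁) ≫ S.arrow =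
      ((pullbackObj f g).fil p).factorThru t ht ≫ ((pullbackObj f g).fil p).arrow ≫ pullback.snd f.hom g.hom := by
    rw [← Category.assoc (((pullbackObj f g).fil p).factorThru t ht)]
    erw [Subobject.factorThru_arrow]
    simp only [t, pullback.lift_snd, Category.assoc]
  rw [this]
  exact imageSubobject_factors_comp_self _ _

end pullback

end GrothLib.FilPush25
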